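import Groth.Prelude.Def_CAlgX
import Mathlib

/-!
# Adic formal smoothness implies formal smoothness

For a local ring presented as a quotient of a noetherian local formally smooth algebra.
-/

open TensorProduct IsLocalRing KaehlerDifferential

universe u

namespace Groth.Agent.AdicSmooth

variable {R S P : Type u} [CommRing R] [CommRing S] [CommRing P] [Algebra R S] [Algebra R P]
  [Algebra P S] [IsScalarTower R P S]

theorem exists_derivation [IsLocalRing S] (hfs : CAlgX.IsAdicFormallySmooth R S (maximalIdeal S))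
    (hsurj : Function.Surjective (algebraMap P S)) (n : ℕ) :
    let I := RingHom.ker (algebraMap P S)
    let Qn := (maximalIdeal S).comap (algebraMap P S) ^ n
    let K := I ^ 2 ⊔ Qn
    let J : Ideal (P ⧸ K) := (I ⊔ Qn).map (Ideal.Quotient.mk K)
    ∃ d : Derivation R P J, ∀ x ∈ I, (d x : P ⧸ K) = - Ideal.Quotient.mk K x := by
  intro I Qn K J
  have hJ : J ^ 2 = ⊥ := by
    rw [← Ideal.map_pow, Ideal.map_eq_bot_iff_le_ker, Ideal.mk_ker, pow_two, Ideal.sup_mul, Ideal.mul_sup]
    refine sup_le (sup_le (le_sup_left.trans' (by rw [pow_two])) ?_) ?_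
    · exact Ideal.mul_le_right.trans le_sup_right
    · exact Ideal.mul_le_left.trans le_sup_right
  have hker : ∀ x ∈ I, (Ideal.Quotient.mkₐ R J) ((Ideal.Quotient.mkₐ R K) x) = 0 := fun x hx =>
    Ideal.Quotient.eq_zero_iff_mem.2 (Ideal.mem_map_of_mem _ (Ideal.mem_sup_left hx))
  let π : P →ₐ[R] S := IsScalarTower.toAlgHom R P S
  let ψ : S →ₐ[R] (P ⧸ K) ⧸ J :=
    AlgHom.liftOfSurjective π hsurj ((Ideal.Quotient.mkₐ R J).comp (Ideal.Quotient.mkₐ R K))
      fun x hx => hker x hx
  have hψ : ∀ x, ψ (algebraMap P S x) = Ideal.Quotient.mk J (Ideal.Quotient.mk K x) := fun x => by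
    show ψ (π x) = _
    simp [ψ]
  obtain ⟨χ, hχ⟩ := hfs (P ⧸ K) J hJ ψ ⟨n, fun y hy => by
    obtain ⟨x, rfl⟩ := hsurj y
    rw [hψ]
    have : x ∈ I ⊔ Qn := by
      have hm : (maximalIdeal S) ^ n ≤ Qn.map (algebraMap P S) := by
        rw [Ideal.map_pow, Ideal.map_comap_of_surjective _ hsurj]
      have := hm hy
      rw [← Ideal.mem_comap, Ideal.comap_map_of_surjective _ hsurj, sup_comm] at this
      exact this
    exact Ideal.Quotient.eq_zero_iff_mem.2 (Ideal.mem_map_of_mem _ this)⟩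
  refine ⟨derivationToSquareZeroOfLift J hJ (χ.comp π) (AlgHom.ext fun x => ?_), fun x hx => ?_⟩
  · show Ideal.Quotient.mkₐ R J (χ (algebraMap P S x)) = _
    exact (AlgHom.congr_fun hχ _).trans (hψ x)
  · show χ (algebraMap P S x) - algebraMap P (P ⧸ K) x = _
    rw [show algebraMap P S x = 0 from hx, map_zero, zero_sub]
    rfl

theorem formallySmooth_of_isAdicFormallySmooth [IsLocalRing S] [IsLocalRing P] [IsNoetherianRing P]
    [Algebra.FormallySmooth R P] [Module.Free P Ω[P⁄R]] [Module.Finite P Ω[P⁄R]]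
    (hsurj : Function.Surjective (algebraMap P S))
    (hfs : CAlgX.IsAdicFormallySmooth R S (maximalIdeal S)) : Algebra.FormallySmooth R S := by
  rw [Algebra.FormallySmooth.iff_injective_cotangentComplexBaseChange_residueField P hsurj
    (IsNoetherian.noetherian _)]
  set I := RingHom.ker (algebraMap P S) with hI
  set Q := (maximalIdeal S).comap (algebraMap P S) with hQ
  haveI : IsLocalHom (algebraMap P S) := hsurj.isLocalHom
  have hQm : Q = maximalIdeal P := by
    rw [hQ]; exact IsLocalRing.eq_maximalIdeal (Ideal.comap_isMaximal_of_surjective _ hsurj)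
  have hres : ∀ c ∈ Q, algebraMap P (ResidueField S) c = 0 := fun c hc => by
    rw [IsScalarTower.algebraMap_apply P S (ResidueField S)]
    exact Ideal.Quotient.eq_zero_iff_mem.2 hc
  have hres' : ∀ c, algebraMap P (ResidueField S) c = 0 → c ∈ Q := fun c hc => by
    rw [IsScalarTower.algebraMap_apply P S (ResidueField S)] at hc
    exact Ideal.mem_comap.2 ((residue_eq_zero_iff _).1 hc)
  rw [injective_iff_map_eq_zero]
  intro ξ hξ
  have hsurjκ : Function.Surjective (algebraMap P (ResidueField S)) := by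
    rw [IsScalarTower.algebraMap_eq P S (ResidueField S)]
    exact residue_surjective.comp hsurj
  obtain ⟨⟨x, hx⟩, rfl⟩ := TensorProduct.mk_surjective P _ _ hsurjκ ξ
  simp only [TensorProduct.mk_apply, cotangentComplexBaseChange_tmul, one_smul] at hξ
  change (1 : ResidueField S) ⊗ₜ[P] D R P x = 0 at hξ
  let b := Module.Free.chooseBasis P Ω[P⁄R]
  have hcoord : ∀ i, b.repr (D R P x) i ∈ Q := fun i => hres' _ (by
    have := congrArg (fun z => (b.baseChange (ResidueField S)).repr z i) hξ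
    simpa [Algebra.smul_def] using this)
  have key : ∀ n, x ∈ Q * I ⊔ Q ^ n := by
    intro n
    obtain ⟨d, hd⟩ := exists_derivation hfs hsurj n
    set l := d.liftKaehlerDifferential
    have h1 : d x ∈ Q • (⊤ : Submodule P _) := by
      have e : d x = ∑ i, l (b.repr (D R P x) i • b i) := by
        rw [← map_sum, b.sum_repr]; exact (Derivation.liftKaehlerDifferential_comp_D d x).symm
      rw [e]
      refine Submodule.sum_mem _ fun i _ => ?_
      rw [map_smul]
      exact Submodule.smul_mem_smul (hcoord i) trivial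
    have h2 : ∀ z ∈ Q • (⊤ : Submodule P ((I ⊔ Q ^ n).map (Ideal.Quotient.mk (I ^ 2 ⊔ Q ^ n)))),
        (z : P ⧸ (I ^ 2 ⊔ Q ^ n)) ∈ (Q * (I ⊔ Q ^ n)).map (Ideal.Quotient.mk (I ^ 2 ⊔ Q ^ n)) := by
      intro z hz
      refine Submodule.smul_induction_on hz (fun c hc w _ => ?_) fun a b ha hb => ?_
      · rw [Ideal.map_mul, Submodule.coe_smul_of_tower, Algebra.smul_def]
        exact Ideal.mul_mem_mul (Ideal.mem_map_of_mem _ hc) w.2
      · rw [Submodule.coe_add]; exact add_mem ha hb
    have h3 := h2 _ h1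
    rw [hd x hx, neg_mem_iff, Ideal.mem_quotient_iff_mem_sup] at h3
    refine (show _ ≤ Q * I ⊔ Q ^ n from (sup_le ?_ (sup_le ?_ le_sup_right))) h3
    · rw [Ideal.mul_sup]
      exact sup_le le_sup_left (Ideal.mul_le_right.trans le_sup_right)
    · rw [pow_two]
      exact le_sup_of_le_left (Ideal.mul_mono_left
        (hQm ▸ le_maximalIdeal (RingHom.ker_ne_top _)))
  have hxQI : x ∈ Q * I := by
    have hne : Q * I ≠ ⊤ := fun h => by
      have h1 : (⊤ : Ideal P) ≤ Q := h ▸ Ideal.mul_le_left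
      exact (Ideal.IsPrime.ne_top (by rw [hQm]; infer_instance : Q.IsPrime)) (top_le_iff.1 h1)
    haveI : Nontrivial (P ⧸ Q * I) := Ideal.Quotient.nontrivial_iff.2 hne
    haveI : IsLocalRing (P ⧸ Q * I) :=
      IsLocalRing.of_surjective' _ Ideal.Quotient.mk_surjective
    rw [← Ideal.Quotient.eq_zero_iff_mem, ← Ideal.mem_bot,
      ← Ideal.iInf_pow_eq_bot_of_isLocalRing (Q.map (Ideal.Quotient.mk (Q * I))) (fun h => by
        have h' := congrArg (Ideal.comap (Ideal.Quotient.mk (Q * I))) h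
        rw [Ideal.comap_map_of_surjective _ Ideal.Quotient.mk_surjective, Ideal.comap_top,
          ← RingHom.ker_eq_comap_bot, Ideal.mk_ker, sup_eq_left.2 Ideal.mul_le_left] at h'
        exact (Ideal.IsPrime.ne_top (by rw [hQm]; infer_instance : Q.IsPrime)) h')]
    rw [Ideal.mem_iInf]
    intro n
    rw [← Ideal.map_pow, Ideal.mem_quotient_iff_mem_sup, sup_comm]
    exact key n
  have hfin : ∃ hy : x ∈ I, (1 : ResidueField S) ⊗ₜ[P] (⟨x, hy⟩ : I) = 0 := by
    refine Submodule.mul_induction_on hxQI (fun c hc w hw => ⟨I.mul_mem_left c hw, ?_⟩)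
      fun a b ⟨ha, ha'⟩ ⟨hb, hb'⟩ => ⟨add_mem ha hb, ?_⟩
    · rw [show (⟨c * w, I.mul_mem_left c hw⟩ : I) = c • (⟨w, hw⟩ : I) from rfl, ← TensorProduct.smul_tmul,
        ← Algebra.algebraMap_eq_smul_one, hres c hc, zero_tmul]
    · rw [show (⟨a + b, add_mem ha hb⟩ : I) = ⟨a, ha⟩ + ⟨b, hb⟩ from rfl, tmul_add, ha', hb', add_zero]
  exact hfin.2

end Groth.Agent.AdicSmooth
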