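import Groth.Prelude.Def_CAlgX
import Mathlib

/-!
# Formal smoothness from lifting along small extensions
-/

open IsLocalRing

universe u

namespace Groth.Agent.AdicSmooth

section coords

variable {R S E : Type u} [CommRing R] [CommRing S] [CommRing E] [Algebra R S] [Algebra R E]

/-- Lifts modulo every coordinate hyperplane of a square zero ideal killed by a maximal ideal
assemble to a lift. -/
theorem exists_lift_of_coords (K : Ideal E) (hK : K ^ 2 = ⊥) (M : Ideal E) [M.IsMaximal]
    (hMK : ∀ m ∈ M, ∀ x ∈ K, m * x = 0) (ψ : S →ₐ[R] E ⧸ K)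
    (H : ∀ L : Ideal E, L ≤ K → ∀ x ∈ K, x ∉ L → (∀ y ∈ K, ∃ c : E, y - c * x ∈ L) →
      ∃ χ : S →ₐ[R] E ⧸ L, ∀ s e, χ s = Ideal.Quotient.mk L e → ψ s = Ideal.Quotient.mk K e) :
    ∃ χ : S →ₐ[R] E, (Ideal.Quotient.mkₐ R K).comp χ = ψ := by
  classical
  letI : Field (E ⧸ M) := Ideal.Quotient.field M
  have htor : Module.IsTorsionBySet E K (M : Set E) := fun x m =>
    Subtype.ext (hMK m.1 m.2 x.1 x.2)
  letI : Module (E ⧸ M) K := htor.module
  have hsmul : ∀ (a : E) (x : K), Ideal.Quotient.mk M a • x = a • x := fun a x => rfl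
  let b := Module.Basis.ofVectorSpace (E ⧸ M) K
  let ι := Module.Basis.ofVectorSpaceIndex (E ⧸ M) K
  let coord : ι → K →ₗ[E ⧸ M] E ⧸ M := fun i => b.coord i
  let L : ι → Ideal E := fun i =>
    { carrier := {e | ∃ x : K, (x : E) = e ∧ coord i x = 0}
      add_mem' := by
        rintro _ _ ⟨x, rfl, hx⟩ ⟨y, rfl, hy⟩
        exact ⟨x + y, rfl, by rw [map_add, hx, hy, add_zero]⟩
      zero_mem' := ⟨0, rfl, map_zero _⟩
      smul_mem' := by
        rintro a _ ⟨x, rfl, hx⟩
        exact ⟨a • x, rfl, by rw [← hsmul, map_smul, hx, smul_zero]⟩ }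
  have hL : ∀ (i : ι) (x : K), ((x : E) ∈ L i ↔ coord i x = 0) := fun i x =>
    ⟨fun ⟨y, hy, hy'⟩ => Subtype.ext hy ▸ hy', fun h => ⟨x, rfl, h⟩⟩
  have hLK : ∀ i, L i ≤ K := fun i e => by rintro ⟨x, rfl, -⟩; exact x.2
  have hχ : ∀ i, ∃ χ : S →ₐ[R] E ⧸ L i, ∀ s e, χ s = Ideal.Quotient.mk (L i) e →
      ψ s = Ideal.Quotient.mk K e := fun i => by
    refine H (L i) (hLK i) (b i : K).1 (b i : K).2 ?_ fun y hy => ?_
    · rw [hL]; simp [coord]
    · obtain ⟨c, hc⟩ := Ideal.Quotient.mk_surjective (coord i ⟨y, hy⟩)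
      refine ⟨c, ?_⟩
      show ((⟨y, hy⟩ - c • b i : K) : E) ∈ L i
      rw [hL, map_sub, ← hsmul, map_smul, hc]
      simp [coord]
  choose χ hχ using hχ
  -- retraction of the finitely supported families inside all families
  obtain ⟨r, hr⟩ := LinearMap.exists_leftInverse_of_injective
    (Finsupp.lcoeFun : (ι →₀ E ⧸ M) →ₗ[E ⧸ M] (ι → E ⧸ M))
    (LinearMap.ker_eq_bot.2 DFunLike.coe_injective)
  let σ : (ι → E ⧸ M) →ₗ[E ⧸ M] K := b.repr.symm.toLinearMap ∘ₗ r
  have hσ : ∀ x : K, σ (fun i => coord i x) = x := fun x => by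
    have := LinearMap.congr_fun hr (b.repr x)
    simp only [LinearMap.comp_apply, Finsupp.lcoeFun_apply, LinearMap.id_apply] at this
    show b.repr.symm (r (fun i => b.repr x i)) = x
    rw [this, LinearEquiv.symm_apply_apply]
  -- the graph of the lift
  let Rel : S → E → Prop := fun s a => ∃ (e : E) (x : ι → K), Ideal.Quotient.mk K e = ψ s ∧
    (∀ i, χ i s = Ideal.Quotient.mk (L i) (e + x i)) ∧ a = e + σ (fun i => coord i (x i))
  have hfun : ∀ s a a', Rel s a → Rel s a' → a = a' := by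
    rintro s _ _ ⟨e, x, he, hx, rfl⟩ ⟨e', x', he', hx', rfl⟩
    have hd : e - e' ∈ K := Ideal.Quotient.eq.1 (he.trans he'.symm)
    let d : K := ⟨e - e', hd⟩
    have h1 : (fun i => coord i (x' i)) = fun i => coord i d + coord i (x i) := funext fun i => by
      rw [← map_add, ← sub_eq_zero, ← map_sub]
      refine (hL i _).1 ?_
      have := Ideal.Quotient.eq.1 ((hx' i).symm.trans (hx i))
      convert this using 1
      simp [d]; ring
    have h2 : σ (fun i => coord i (x' i)) = d + σ (fun i => coord i (x i)) := by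
      rw [h1, show (fun i => coord i d + coord i (x i)) =
        (fun i => coord i d) + fun i => coord i (x i) from rfl, map_add, hσ]
    rw [h2, Submodule.coe_add]
    show e + _ = e' + (e - e' + _)
    ring
  have hex : ∀ s, ∃ a, Rel s a := fun s => by
    obtain ⟨e, he⟩ := Ideal.Quotient.mk_surjective (ψ s)
    have : ∀ i, ∃ x : K, χ i s = Ideal.Quotient.mk (L i) (e + x) := fun i => by
      obtain ⟨e', he'⟩ := Ideal.Quotient.mk_surjective (χ i s)
      have hd : e' - e ∈ K := Ideal.Quotient.eq.1 ((hχ i s e' he'.symm).symm.trans he.symm)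
      exact ⟨⟨e' - e, hd⟩, by rw [← he']; simp⟩
    choose x hx using this
    exact ⟨_, e, x, he, hx, rfl⟩
  choose f hf using hex
  have hmem : ∀ a : R, Rel (algebraMap R S a) (algebraMap R E a) := fun a =>
    ⟨algebraMap R E a, 0, by rw [AlgHom.commutes]; rfl, fun i => by
      rw [AlgHom.commutes]; simp, by simp [show (fun i : ι => (0 : E ⧸ M)) = 0 from rfl]⟩
  have hadd : ∀ s t, Rel (s + t) (f s + f t) := fun s t => by
    obtain ⟨e, x, he, hx, ha⟩ := hf s
    obtain ⟨e', x', he', hx', ha'⟩ := hf t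
    refine ⟨e + e', x + x', by rw [map_add, map_add, he, he'], fun i => ?_, ?_⟩
    · rw [map_add, hx, hx', ← map_add, Pi.add_apply, Submodule.coe_add]
      congr 1; ring
    · rw [ha, ha', show (fun i => coord i ((x + x') i)) =
        (fun i => coord i (x i)) + fun i => coord i (x' i) from funext fun i => map_add _ _ _,
        map_add, Submodule.coe_add]
      ring
  have hmul : ∀ s t, Rel (s * t) (f s * f t) := fun s t => by
    obtain ⟨e, x, he, hx, ha⟩ := hf s
    obtain ⟨e', x', he', hx', ha'⟩ := hf t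
    have hzero : ∀ u v : K, (u : E) * v = 0 := fun u v => by
      have := Ideal.mul_mem_mul u.2 v.2
      rw [← pow_two, hK] at this
      exact this
    refine ⟨e * e', fun i => e • x' i + e' • x i, by rw [map_mul, map_mul, he, he'], fun i => ?_, ?_⟩
    · rw [map_mul, hx, hx', ← map_mul]
      congr 1
      simp only [Submodule.coe_add, Submodule.coe_smul_of_tower, smul_eq_mul]
      linear_combination hzero (x i) (x' i)
    · rw [ha, ha', show (fun i => coord i (e • x' i + e' • x i)) =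
        Ideal.Quotient.mk M e • (fun i => coord i (x' i)) + Ideal.Quotient.mk M e' • (fun i => coord i (x i))
        from funext fun i => by
          rw [map_add, ← hsmul, ← hsmul, map_smul, map_smul]; rfl,
        map_add, map_smul, map_smul, hsmul, hsmul]
      simp only [Submodule.coe_add, Submodule.coe_smul_of_tower, smul_eq_mul]
      linear_combination hzero (σ fun i => coord i (x i)) (σ fun i => coord i (x' i))
  let F : S →ₐ[R] E :=
    { toFun := f
      map_add' := fun s t => hfun _ _ _ (hf _) (hadd s t)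
      map_mul' := fun s t => hfun _ _ _ (hf _) (hmul s t)
      map_one' := by
        have := hmem 1
        rw [map_one, map_one] at this
        exact hfun _ _ _ (hf _) this
      map_zero' := by
        have := hmem 0
        rw [map_zero, map_zero] at this
        exact hfun _ _ _ (hf _) this
      commutes' := fun a => hfun _ _ _ (hf _) (hmem a) }
  refine ⟨F, AlgHom.ext fun s => ?_⟩
  obtain ⟨e, x, he, -, ha⟩ := hf s
  show Ideal.Quotient.mk K (f s) = ψ s
  rw [ha, map_add, he, Ideal.Quotient.eq_zero_iff_mem.2 (σ fun i => coord i (x i)).2, add_zero]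

end coords

variable {R S : Type u} [CommRing R] [CommRing S] [IsLocalRing R] [IsLocalRing S] [IsNoetherianRing S]
  [Algebra R S] [IsLocalHom (algebraMap R S)]

/-- Lifting condition along extensions of artinian local rings by ideals of length one. -/
def SmallLift (R S : Type u) [CommRing R] [CommRing S] [IsLocalRing R] [IsLocalRing S] [Algebra R S] :
    Prop :=
  ∀ (A : Type u) [CommRing A] [IsLocalRing A] [IsArtinianRing A] [Algebra R A]
    [IsLocalHom (algebraMap R A)] (J : Ideal A), J ^ 2 = ⊥ → Module.length A J = 1 →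
    ∀ [IsLocalRing (A ⧸ J)] (ψ : S →ₐ[R] A ⧸ J) [IsLocalHom ψ.toRingHom],
      Function.Bijective (ResidueField.map ψ.toRingHom) →
      ∃ χ : S →ₐ[R] A, (Ideal.Quotient.mkₐ R J).comp χ = ψ

theorem residueField_map_bijective_of_surjective {A B : Type u} [CommRing A] [CommRing B] [IsLocalRing A]
    [IsLocalRing B] (f : A →+* B) [IsLocalHom f] (hf : Function.Surjective f) :
    Function.Bijective (ResidueField.map f) := by
  refine ⟨(ResidueField.map f).injective, fun y => ?_⟩
  obtain ⟨y, rfl⟩ := residue_surjective y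
  obtain ⟨x, rfl⟩ := hf y
  exact ⟨residue A x, rfl⟩

/-- Lifting along a surjection onto an artinian quotient of `S` with kernel killed by the maximal
ideal. -/
theorem lift_of_smallLift_killed (h : SmallLift R S) {E : Type u} [CommRing E] [Algebra R E]
    (K : Ideal E) (hK : K ^ 2 = ⊥) (ψ : S →ₐ[R] E ⧸ K) (hψ : Function.Surjective ψ) (k : ℕ)
    (hk : ∀ x ∈ maximalIdeal S ^ k, ψ x = 0) [Nontrivial (E ⧸ K)]
    (hMK : ∀ s ∈ maximalIdeal S, ∀ e, Ideal.Quotient.mk K e = ψ s → ∀ x ∈ K, e * x = 0) :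
    ∃ χ : S →ₐ[R] E, (Ideal.Quotient.mkₐ R K).comp χ = ψ := by
  haveI : IsLocalRing (E ⧸ K) := IsLocalRing.of_surjective' ψ.toRingHom hψ
  haveI : IsLocalHom ψ.toRingHom := IsLocalHom.of_surjective ψ.toRingHom hψ
  let M : Ideal E := (maximalIdeal (E ⧸ K)).comap (Ideal.Quotient.mk K)
  haveI : M.IsMaximal := Ideal.comap_isMaximal_of_surjective _ Ideal.Quotient.mk_surjective
  have hmax : (maximalIdeal S).map ψ.toRingHom = maximalIdeal (E ⧸ K) :=
    IsLocalRing.map_maximalIdeal_of_surjective _ hψ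
  have hMK' : ∀ m ∈ M, ∀ x ∈ K, m * x = 0 := fun m hm x hx => by
    obtain ⟨s, hs, hs'⟩ := (Ideal.mem_map_iff_of_surjective _ hψ).1 (hmax.ge hm)
    exact hMK s hs m hs'.symm x hx
  refine exists_lift_of_coords K hK M hMK' ψ fun L hLK x hx hxL hgen => ?_
  -- the small extension `E ⧸ L`
  let J : Ideal (E ⧸ L) := K.map (Ideal.Quotient.mk L)
  let q : (E ⧸ L) →ₐ[R] E ⧸ K := Ideal.Quotient.factorₐ R hLK
  have hq : Function.Surjective q := Ideal.Quotient.factor_surjective hLK
  have hqker : RingHom.ker q.toRingHom = J := Ideal.Quotient.factor_ker hLK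
  have hJ2 : J ^ 2 = ⊥ := by rw [← Ideal.map_pow, hK, Ideal.map_bot]
  haveI : Nontrivial (E ⧸ L) := Function.Surjective.nontrivial hq
  have hunit : ∀ a, IsUnit (q a) → IsUnit a := fun a ha => by
    obtain ⟨y, hy⟩ := hq ↑ha.unit⁻¹
    have hker : a * y - 1 ∈ J := by
      rw [← hqker, RingHom.mem_ker]
      show q (a * y - 1) = 0
      rw [map_sub, map_mul, map_one, hy, ha.mul_val_inv, sub_self]
    have hn : IsNilpotent (a * y - 1) := ⟨2, by
      have := Ideal.pow_mem_pow hker 2; rw [hJ2] at this; exact this⟩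
    have := hn.isUnit_add_one
    rw [sub_add_cancel] at this
    exact isUnit_of_mul_isUnit_left this
  haveI : IsLocalHom q.toRingHom := ⟨hunit⟩
  haveI : IsLocalRing (E ⧸ L) := RingHom.domain_isLocalRing q.toRingHom
  -- `J` is simple
  have hxJ : Ideal.Quotient.mk L x ∈ J := Ideal.mem_map_of_mem _ hx
  have hx0 : Ideal.Quotient.mk L x ≠ 0 := fun h => hxL (Ideal.Quotient.eq_zero_iff_mem.1 h)
  have hkill : ∀ a, ¬ IsUnit a → ∀ y ∈ J, a * y = 0 := fun a ha y hy => by
    obtain ⟨a, rfl⟩ := Ideal.Quotient.mk_surjective a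
    obtain ⟨y', hy', rfl⟩ := (Ideal.mem_map_iff_of_surjective _ Ideal.Quotient.mk_surjective).1 hy
    rw [← map_mul, hMK' a ?_ y' hy', map_zero]
    exact fun hu => ha (hunit _ hu)
  have hJspan : ∀ y ∈ J, ∃ c, y = c * Ideal.Quotient.mk L x := fun y hy => by
    obtain ⟨y', hy', rfl⟩ := (Ideal.mem_map_iff_of_surjective _ Ideal.Quotient.mk_surjective).1 hy
    obtain ⟨c, hc⟩ := hgen y' hy'
    exact ⟨Ideal.Quotient.mk L c, by rw [← map_mul]; exact Ideal.Quotient.eq.2 hc⟩
  haveI : IsSimpleModule (E ⧸ L) J := by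
    rw [isSimpleModule_iff_toSpanSingleton_surjective]
    refine ⟨⟨⟨⟨_, hxJ⟩, 0, fun h => hx0 (congrArg Subtype.val h)⟩⟩, fun y hy z => ?_⟩
    obtain ⟨c, hc⟩ := hJspan y.1 y.2
    have hcu : IsUnit c := by
      by_contra hcu
      exact hy (Subtype.ext (hc.trans (hkill c hcu _ hxJ)))
    obtain ⟨d, hd⟩ := hJspan z.1 z.2
    refine ⟨d * ↑hcu.unit⁻¹, Subtype.ext ?_⟩
    show d * ↑hcu.unit⁻¹ * (y : E ⧸ L) = z
    rw [hc, hd]
    linear_combination d * Ideal.Quotient.mk L x * hcu.val_inv_mul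
  have hlen : Module.length (E ⧸ L) J = 1 := Module.length_eq_one _ _
  haveI : IsArtinianRing (E ⧸ L) := by
    haveI : IsArtinianRing (E ⧸ K) := by
      let f : S ⧸ maximalIdeal S ^ k →+* E ⧸ K := Ideal.Quotient.lift _ ψ.toRingHom hk
      haveI : IsArtinianRing (S ⧸ maximalIdeal S ^ k) := by
        rw [isArtinianRing_iff_isNoetherianRing_krullDimLE_zero]
        refine ⟨inferInstance, Ring.krullDimLE_zero_iff.2 fun P hP => ?_⟩
        have h1 : maximalIdeal S ^ k ≤ P.comap (Ideal.Quotient.mk _) := by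
          rw [← Ideal.map_le_iff_le_comap, Ideal.map_quotient_self]; exact bot_le
        have h2 : maximalIdeal S = P.comap (Ideal.Quotient.mk _) :=
          le_antisymm ((Ideal.IsPrime.comap _).le_of_pow_le h1)
            (IsLocalRing.le_maximalIdeal (Ideal.IsPrime.comap _).ne_top)
        rw [← Ideal.map_comap_of_surjective _ Ideal.Quotient.mk_surjective P, ← h2]
        exact (Ideal.map_eq_top_or_isMaximal_of_surjective _ Ideal.Quotient.mk_surjective
          (maximalIdeal.isMaximal S)).resolve_left fun hh => hP.ne_top (by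
          rw [← Ideal.map_comap_of_surjective _ Ideal.Quotient.mk_surjective P, ← h2]; exact hh)
      exact Function.Surjective.isArtinianRing (f := f) (Ideal.Quotient.lift_surjective_of_surjective _ _ hψ)
    haveI : IsArtinian (E ⧸ L) J := inferInstance
    haveI : IsArtinianRing ((E ⧸ L) ⧸ J) :=
      Function.Surjective.isArtinianRing (f := (DoubleQuot.quotQuotEquivQuotOfLE hLK).symm.toRingHom)
        (DoubleQuot.quotQuotEquivQuotOfLE hLK).symm.surjective
    haveI : IsArtinian (E ⧸ L) ((E ⧸ L) ⧸ J) := by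
      haveI : RingHomSurjective (Ideal.Quotient.mk J) := ⟨Ideal.Quotient.mk_surjective⟩
      let idq : ((E ⧸ L) ⧸ J) →ₛₗ[Ideal.Quotient.mk J] ((E ⧸ L) ⧸ J) :=
        { toFun := id, map_add' := fun _ _ => rfl, map_smul' := fun a x => by
            obtain ⟨x, rfl⟩ := Ideal.Quotient.mk_surjective x
            rfl }
      exact (LinearMap.isArtinian_iff_of_bijective idq Function.bijective_id).2 inferInstance
    exact (isArtinian_iff_submodule_quotient J).2 ⟨inferInstance, inferInstance⟩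
  haveI : IsLocalHom (algebraMap R (E ⧸ L)) := ⟨fun a ha => by
    have h1 : IsUnit (ψ (algebraMap R S a)) := by
      rw [AlgHom.commutes, ← q.commutes]; exact ha.map q
    exact (isUnit_map_iff (algebraMap R S) a).1 ((isUnit_map_iff ψ.toRingHom _).1 h1)⟩
  let e : (E ⧸ K) ≃ₐ[R] (E ⧸ L) ⧸ J := (DoubleQuot.quotQuotEquivQuotOfLEₐ R hLK).symm
  haveI : Nontrivial ((E ⧸ L) ⧸ J) := e.injective.nontrivial
  haveI : IsLocalRing ((E ⧸ L) ⧸ J) := IsLocalRing.of_surjective' (Ideal.Quotient.mk J) Ideal.Quotient.mk_surjective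
  let ψ' : S →ₐ[R] (E ⧸ L) ⧸ J := e.toAlgHom.comp ψ
  have hψ' : Function.Surjective ψ' := e.surjective.comp hψ
  haveI : IsLocalHom ψ'.toRingHom := IsLocalHom.of_surjective _ hψ'
  obtain ⟨χ, hχ⟩ := h (E ⧸ L) J hJ2 hlen ψ' (residueField_map_bijective_of_surjective _ hψ')
  refine ⟨χ, fun s e' he' => ?_⟩
  apply e.injective
  rw [← show ψ' s = e (ψ s) from rfl, ← hχ, AlgHom.comp_apply, he']
  exact (AlgEquiv.apply_symm_apply _ _).symm.trans rfl

/-- Lifting along a square zero extension whose ideal is killed by the maximal ideal of `S`. -/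
theorem lift_of_killed (h : SmallLift R S) {E : Type u} [CommRing E] [Algebra R E]
    (K : Ideal E) (hK : K ^ 2 = ⊥) (ψ : S →ₐ[R] E ⧸ K) (k : ℕ)
    (hk : ∀ x ∈ maximalIdeal S ^ k, ψ x = 0)
    (hMK : ∀ s ∈ maximalIdeal S, ∀ e, Ideal.Quotient.mk K e = ψ s → ∀ x ∈ K, e * x = 0) :
    ∃ χ : S →ₐ[R] E, (Ideal.Quotient.mkₐ R K).comp χ = ψ := by
  -- pull back along `S ⧸ m ^ (k + 1)`
  let n := maximalIdeal S ^ (k + 1)
  let ψn : (S ⧸ n) →ₐ[R] E ⧸ K :=
    Ideal.Quotient.liftₐ n ψ fun x hx => hk x (Ideal.pow_le_pow_right k.le_succ hx)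
  let P : Subalgebra R (E × (S ⧸ n)) :=
    AlgHom.equalizer ((Ideal.Quotient.mkₐ R K).comp (AlgHom.fst R E (S ⧸ n)))
      (ψn.comp (AlgHom.snd R E (S ⧸ n)))
  let p : P →ₐ[R] S ⧸ n := (AlgHom.snd R E (S ⧸ n)).comp P.val
  have hp : Function.Surjective p := fun y => by
    obtain ⟨e, he⟩ := Ideal.Quotient.mk_surjective (ψn y)
    exact ⟨⟨(e, y), he⟩, rfl⟩
  let N : Ideal P := RingHom.ker p.toRingHom
  have hN1 : ∀ z ∈ N, z.1.1 ∈ K := fun z hz => by
    rw [← Ideal.Quotient.eq_zero_iff_mem]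
    have h1 : Ideal.Quotient.mk K z.1.1 = ψn z.1.2 := z.2
    rw [h1, show z.1.2 = 0 from hz, map_zero]
  have hN : N ^ 2 = ⊥ := by
    rw [eq_bot_iff, pow_two, Ideal.mul_le]
    intro a ha b hb
    refine Ideal.mem_bot.2 (Subtype.ext (Prod.ext ?_ ?_))
    · have h1 := Ideal.mul_mem_mul (hN1 a ha) (hN1 b hb)
      rw [← pow_two, hK] at h1
      exact h1
    · show a.1.2 * b.1.2 = 0
      rw [show a.1.2 = 0 from ha, zero_mul]
  let eq' := Ideal.quotientKerAlgEquivOfSurjective hp
  let ψ' : S →ₐ[R] P ⧸ N := eq'.symm.toAlgHom.comp (Ideal.Quotient.mkₐ R n)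
  have hψ' : Function.Surjective ψ' := eq'.symm.surjective.comp Ideal.Quotient.mk_surjective
  haveI : Nontrivial (S ⧸ n) := Ideal.Quotient.nontrivial_iff.2
    (ne_top_of_le_ne_top (maximalIdeal.isMaximal S).ne_top (Ideal.pow_le_self k.succ_ne_zero))
  haveI : Nontrivial (P ⧸ N) := eq'.symm.injective.nontrivial
  obtain ⟨χ, hχ⟩ := lift_of_smallLift_killed h N hN ψ' hψ' (k + 1)
    (fun x hx => by
      show eq'.symm (Ideal.Quotient.mk n x) = 0
      rw [Ideal.Quotient.eq_zero_iff_mem.2 hx, map_zero])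
    (fun s hs z hz y hy => by
      have h1 : z.1.2 = Ideal.Quotient.mk n s := by
        have := congrArg eq' hz
        rw [show eq' (ψ' s) = Ideal.Quotient.mk n s from eq'.apply_symm_apply _] at this
        exact this
      refine Subtype.ext (Prod.ext ?_ ?_)
      · refine hMK s hs z.1.1 ?_ y.1.1 (hN1 y hy)
        rw [show Ideal.Quotient.mk K z.1.1 = ψn z.1.2 from z.2, h1]
        rfl
      · show z.1.2 * y.1.2 = 0
        rw [show y.1.2 = 0 from hy, mul_zero])
  refine ⟨((AlgHom.fst R E (S ⧸ n)).comp P.val).comp χ, AlgHom.ext fun s => ?_⟩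
  have h1 : (χ s).1.2 = Ideal.Quotient.mk n s := by
    have := congrArg eq' (AlgHom.congr_fun hχ s)
    rw [show eq' (ψ' s) = Ideal.Quotient.mk n s from eq'.apply_symm_apply _] at this
    exact this
  show Ideal.Quotient.mk K (χ s).1.1 = ψ s
  rw [show Ideal.Quotient.mk K (χ s).1.1 = ψn (χ s).1.2 from (χ s).2, h1]
  rfl

/-- The lifting criterion. -/
theorem isAdicFormallySmooth_of_smallLift (h : SmallLift R S) :
    CAlgX.IsAdicFormallySmooth R S (maximalIdeal S) := by
  intro A _ _ J hJ ψ ⟨k, hk⟩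
  -- the preimage of the maximal ideal
  let M : Ideal A := ((maximalIdeal S).map ψ.toRingHom).comap (Ideal.Quotient.mk J)
  have hMk : M ^ (2 * k) * J = ⊥ := by
    have h1 : M ^ k ≤ J := by
      have h2 : (M ^ k).map (Ideal.Quotient.mk J) ≤ ⊥ := by
        rw [Ideal.map_pow]
        refine (Ideal.pow_right_mono Ideal.map_comap_le k).trans ?_
        rw [← Ideal.map_pow, Ideal.map_le_iff_le_comap]
        intro x hx
        exact hk x hx
      intro x hx
      exact Ideal.Quotient.eq_zero_iff_mem.1 (h2 (Ideal.mem_map_of_mem _ hx))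
    rw [two_mul, pow_add, eq_bot_iff]
    refine (Ideal.mul_mono_left (Ideal.mul_mono h1 h1)).trans ?_
    rw [← pow_two, hJ, Ideal.bot_mul]
  suffices H : ∀ i, ∃ χ : S →ₐ[R] A ⧸ (M ^ i * J), ∀ s a, χ s = Ideal.Quotient.mk _ a →
      ψ s = Ideal.Quotient.mk J a by
    obtain ⟨χ, hχ⟩ := H (2 * k)
    let e : A ≃ₐ[R] A ⧸ (M ^ (2 * k) * J) :=
      AlgEquiv.ofBijective (Ideal.Quotient.mkₐ R _) ⟨fun a b hab => by
        have := Ideal.Quotient.eq.1 hab
        rw [hMk] at this
        exact sub_eq_zero.1 this, Ideal.Quotient.mk_surjective⟩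
    exact ⟨e.symm.toAlgHom.comp χ, AlgHom.ext fun s => (hχ s _ (e.apply_symm_apply _).symm).symm⟩
  intro i
  induction i with
  | zero =>
    have he : J = M ^ 0 * J := by rw [pow_zero, one_mul]
    refine ⟨(Ideal.quotientEquivAlgOfEq R he).toAlgHom.comp ψ, fun s a hs => ?_⟩
    apply (Ideal.quotientEquivAlgOfEq R he).injective
    exact hs.trans rfl
  | succ i ih =>
    obtain ⟨χ, hχ⟩ := ih
    let L := M ^ (i + 1) * J
    have hle : L ≤ M ^ i * J := Ideal.mul_mono_left (Ideal.pow_le_pow_right i.le_succ)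
    let K : Ideal (A ⧸ L) := (M ^ i * J).map (Ideal.Quotient.mk L)
    have hK : K ^ 2 = ⊥ := by
      rw [eq_bot_iff, ← Ideal.map_pow, ← Ideal.map_bot (f := Ideal.Quotient.mk L)]
      refine Ideal.map_mono ((Ideal.pow_right_mono Ideal.mul_le_right 2).trans ?_)
      rw [hJ]
    let e : (A ⧸ M ^ i * J) ≃ₐ[R] (A ⧸ L) ⧸ K := (DoubleQuot.quotQuotEquivQuotOfLEₐ R hle).symm
    have he : ∀ a, e (Ideal.Quotient.mk _ a) = Ideal.Quotient.mk K (Ideal.Quotient.mk L a) := fun a => rfl
    have hkill : ∀ x, ∀ s ∈ maximalIdeal S, e (χ s) = Ideal.Quotient.mk K (Ideal.Quotient.mk L x) → x ∈ M :=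
      fun x s hs hx => by
        rw [← he] at hx
        rw [Ideal.mem_comap, ← hχ s x (e.injective hx)]
        exact Ideal.mem_map_of_mem _ hs
    obtain ⟨χ', hχ'⟩ := lift_of_killed h K hK (e.toAlgHom.comp χ) ((k + 1) * 2)
      (fun x hx => by
        show e (χ x) = 0
        rw [show χ x = 0 from ?_, map_zero]
        have h1 : (maximalIdeal S ^ (k + 1)).map χ.toRingHom ≤ J.map (Ideal.Quotient.mk _) :=
          Ideal.map_le_iff_le_comap.2 fun y hy => by
            obtain ⟨a, ha⟩ := Ideal.Quotient.mk_surjective (χ y)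
            rw [Ideal.mem_comap]
            show χ y ∈ _
            rw [← ha]
            refine Ideal.mem_map_of_mem _ (Ideal.Quotient.eq_zero_iff_mem.1 ?_)
            rw [← hχ y a ha.symm]
            exact hk y (Ideal.pow_le_pow_right k.le_succ hy)
        rw [pow_mul] at hx
        have h2 := (Ideal.map_pow χ.toRingHom _ _).trans_le (Ideal.pow_right_mono h1 2)
          (Ideal.mem_map_of_mem χ.toRingHom hx)
        rw [← Ideal.map_pow, hJ, Ideal.map_bot] at h2
        exact h2)
      (fun s hs y hy z hz => by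
        obtain ⟨a, rfl⟩ := Ideal.Quotient.mk_surjective y
        obtain ⟨b, hb, rfl⟩ := (Ideal.mem_map_iff_of_surjective _ Ideal.Quotient.mk_surjective).1 hz
        rw [← map_mul, Ideal.Quotient.eq_zero_iff_mem]
        show a * b ∈ M ^ (i + 1) * J
        rw [pow_succ', mul_assoc]
        exact Ideal.mul_mem_mul (hkill a s hs hy.symm) hb)
    refine ⟨χ', fun s a hs => ?_⟩
    have h1 := AlgHom.congr_fun hχ' s
    rw [AlgHom.comp_apply, hs] at h1
    exact hχ s a (e.injective (h1.symm.trans (he a).symm))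

end Groth.Agent.AdicSmooth
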